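import Groth.Agent.SymAlgOmega

/-! `C ⊗ M ≅ Ω_{C/A}` for any algebra `C` isomorphic to the symmetric algebra of `M`. -/

namespace Groth.Agent.VBundleOmega

open TensorProduct

universe u v w

variable {A : Type u} [CommRing A] {M : Type v} [AddCommGroup M] [Module A M]
  {C : Type w} [CommRing C] [Algebra A C] (e : SymmetricAlgebra A M ≃ₐ[A] C)

/-- Change of the coefficient algebra. -/
noncomputable def tens : SymmetricAlgebra A M ⊗[A] M →ₗ[A] C ⊗[A] M :=
  TensorProduct.map e.toLinearMap LinearMap.id

theorem tens_smul (a : SymmetricAlgebra A M) (x : SymmetricAlgebra A M ⊗[A] M) :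
    tens e (a • x) = e a • tens e x := by
  induction x using TensorProduct.induction_on with
  | zero => simp
  | tmul c m => simp [tens, TensorProduct.smul_tmul', map_mul]
  | add x y hx hy => rw [smul_add, map_add, map_add, hx, hy, smul_add]

/-- The transported derivation. -/
noncomputable def der : Derivation A C (C ⊗[A] M) where
  toLinearMap := (tens e).comp ((SymAlgOmega.der A M).toLinearMap.comp e.symm.toLinearMap)
  map_one_eq_zero' := by simp
  leibniz' a b := by
    simp [Derivation.leibniz, map_add, tens_smul]

theorem der_apply (x : SymmetricAlgebra A M) : der e (e x) = tens e (SymAlgOmega.der A M x) := by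
  show tens e (SymAlgOmega.der A M (e.symm (e x))) = _
  rw [e.symm_apply_apply]

theorem der_ι (m : M) : der e (e (SymmetricAlgebra.ι A M m)) = (1 : C) ⊗ₜ[A] m := by
  rw [der_apply, SymAlgOmega.der_ι]
  simp [tens]

theorem bijective_of_tmul (f : C ⊗[A] M →ₗ[C] Ω[C⁄A])
    (hf : ∀ m, f ((1 : C) ⊗ₜ m) = KaehlerDifferential.D A C (e (SymmetricAlgebra.ι A M m))) :
    Function.Bijective f := by
  have hD : ∀ x : SymmetricAlgebra A M, f (der e (e x)) = KaehlerDifferential.D A C (e x) := by
    intro x
    induction x using SymmetricAlgebra.induction with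
    | algebraMap r => simp
    | ι m => rw [der_ι, hf]
    | mul a b ha hb => rw [map_mul, Derivation.leibniz, map_add, map_smul, map_smul, ha, hb, Derivation.leibniz]
    | add a b ha hb => rw [map_add, map_add, map_add, map_add, ha, hb]
  let g := (der e).liftKaehlerDifferential
  refine Function.bijective_iff_has_inverse.2 ⟨g, fun x => ?_, fun y => ?_⟩
  · induction x using TensorProduct.induction_on with
    | zero => simp
    | tmul c m =>
      have : c ⊗ₜ[A] m = c • ((1 : C) ⊗ₜ[A] m) := by simp [TensorProduct.smul_tmul']
      rw [this, map_smul, map_smul, hf]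
      congr 1
      exact ((der e).liftKaehlerDifferential_comp_D _).trans (der_ι e m)
    | add x y hx hy => rw [map_add, map_add, hx, hy]
  · have : f.comp g = LinearMap.id := by
      refine Derivation.liftKaehlerDifferential_unique _ _ ?_
      ext c
      obtain ⟨x, rfl⟩ := e.surjective c
      simp [g, hD]
    exact LinearMap.congr_fun this y

end Groth.Agent.VBundleOmega
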